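import Cfsg.Agent.H189.SN.OrdThree

/-!
# Elements of order nine of `PSU_n(3)`, `n ≥ 5` (helper189, S3831 E3b)

* `order9` : the restriction to a non-degenerate subspace of dimension four has order nine.
-/

set_option autoImplicit false
set_option linter.unusedSectionVars false

namespace Cfsg.Agent.H189.SN

open Matrix Subgroup Module Cfsg
open Cfsg.Agent.LieClassical.HermBasic Cfsg.Agent.LieClassical.HermSiegel
open Cfsg.Agent.ClassicalGeometry.PSUAutBasic Cfsg.Agent.ClassicalGeometry.HermOrtho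
open Cfsg.Agent.ClassicalGeometry.PSUAutCount (toAut gm gm_mul gm_one gm_mul_inv gm_inv_mul semiConj guConj act_guConj
  herm_gm gm_inv_mulVec gm_mulVec_inv herm_map gm_inj act_semiConj herm_semi sc gm_sc_mul toAut_sc_mul
  eq_of_toAut_eq)
open Cfsg.Agent.H459.Rad Cfsg.Agent.H21.SN

variable {F : Type} [Field F] [Fintype F] {n m : ℕ}

/-- `N ^ 3 = A ^ 3 - 1` -/
theorem NN_cube' (hF : Fintype.card F = 3 ^ 2) (A : GU n F 3) (v : Fin n → F) :
    NN A *ᵥ (NN A *ᵥ (NN A *ᵥ v)) = gm A ^ 3 *ᵥ v - v := by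
  have h0 := three_eq_zero hF
  rw [mulVec_mulVec, mulVec_mulVec]
  have h1 : NN A * NN A * NN A = gm A ^ 3 - 1 := by
    have h2 : NN A * NN A * NN A = gm A ^ 3 - 1 - (3 : F) • (gm A ^ 2 - gm A) := by
      rw [NN]
      have h3 : (3 : F) • (gm A ^ 2 - gm A) = (gm A ^ 2 - gm A) + (gm A ^ 2 - gm A) + (gm A ^ 2 - gm A) := by
        rw [show (3 : F) = 1 + 1 + 1 by norm_num, add_smul, add_smul, one_smul]
      rw [h3]
      noncomm_ring
    rw [h2, h0, zero_smul, sub_zero]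
  rw [h1, sub_mulVec, one_mulVec]

theorem order9 (hF : Fintype.card F = 3 ^ 2) (hn : 5 ≤ n) (h3 : LrU 3) (h4 : LrU 4) {x : MulAut (PSU n F 3)}
    (hx : orderOf x = 9) (hps : PS 2 x) (hrn : RN (x ^ 3)) :
    ∃ y : MulAut (PSU 4 F 3), orderOf y = 9 ∧ PS 2 y := by
  obtain ⟨A, rfl, hA9⟩ := exists_unip hF (by omega) x (Or.inr rfl) (orderOf_dvd_iff_pow_eq_one.1 (by rw [hx]))
  have hx9 : (toAut A 1 : MulAut (PSU n F 3)) ^ 9 = 1 := orderOf_dvd_iff_pow_eq_one.1 (by rw [hx])
  have hps3 : PS 2 ((toAut A 1 : MulAut (PSU n F 3)) ^ 3) := PS.pow hps 3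
  have hx3 : (toAut A 1 : MulAut (PSU n F 3)) ^ 3 ≠ 1 := by
    intro h
    have h1 := orderOf_dvd_of_pow_eq_one h
    rw [hx] at h1
    norm_num at h1
  rw [toAut_pow' hF] at hps3 hrn hx3
  have hA3 : gm (A ^ 3) ^ 3 = 1 := by rw [gm_pow', ← pow_mul, hA9]
  have hA1 : gm (A ^ 3) ≠ 1 := by
    intro h
    have h1 : A ^ 3 = 1 := gm_inj h
    exact hx3 (by rw [h1, toAut_one])
  obtain ⟨w, μ, hT⟩ := transv_of_sq hF hn h4 hA3 hA1 (step_sq hF hn h3 hA3 hps3 hrn) hps3 hrn
  have hN3 : ∀ v, NN A *ᵥ (NN A *ᵥ (NN A *ᵥ v)) = (μ * hermForm n F 3 v w) • w := by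
    intro v
    rw [NN_cube' hF, ← gm_pow', hT.eq, add_sub_cancel_left]
  -- `N w = 0`
  obtain ⟨v, hv⟩ : ∃ v, hermForm n F 3 v w ≠ 0 := by
    obtain ⟨v, hv⟩ := exists_herm_ne_zero hF hT.ne
    exact ⟨v, fun h => hv (herm_eq_zero_swap hF h)⟩
  have hNw : NN A *ᵥ w = 0 := by
    have h1 := hN3 (NN A *ᵥ v)
    rw [hN3 v, mulVec_smul] at h1
    have h2 : μ * hermForm n F 3 v w ≠ 0 := mul_ne_zero hT.mu hv
    have h5 : NN A *ᵥ w = ((μ * hermForm n F 3 v w)⁻¹ * (μ * hermForm n F 3 (NN A *ᵥ v) w)) • w := by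
      rw [← smul_smul, ← h1, smul_smul, inv_mul_cancel₀ h2, one_smul]
    set t := (μ * hermForm n F 3 v w)⁻¹ * (μ * hermForm n F 3 (NN A *ᵥ v) w) with ht
    have h6 := hN3 w
    rw [hT.iso, mul_zero, zero_smul, h5, mulVec_smul, h5, mulVec_smul, mulVec_smul, h5, smul_smul, smul_smul] at h6
    have h7 : t * t * t = 0 := by
      rcases smul_eq_zero.1 h6 with h | h
      · linear_combination h
      · exact absurd h hT.ne
    have h8 : t = 0 := by
      have : t ^ 3 = 0 := by linear_combination h7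
      exact (pow_eq_zero_iff (by norm_num)).1 this
    rw [h5, h8, zero_smul]
  set v1 := NN A *ᵥ v with hv1
  set v2 := NN A *ᵥ v1 with hv2
  set v3 := NN A *ᵥ v2 with hv3
  have hv3' : v3 = (μ * hermForm n F 3 v w) • w := hN3 v
  have hv4 : NN A *ᵥ v3 = 0 := by rw [hv3', mulVec_smul, hNw, smul_zero]
  set δ := hermForm n F 3 v v3 with hδ
  have hδ0 : δ ≠ 0 := by
    rw [hδ, hv3', herm_smul_right]
    exact mul_ne_zero (pow_ne_zero _ (mul_ne_zero hT.mu hv)) hv
  have e32 := herm_NN hF A v3 v2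
  have e31 := herm_NN hF A v3 v1
  have e30 := herm_NN hF A v3 v
  have e13 := herm_NN hF A v1 v3
  have e03 := herm_NN hF A v v3
  have e21 := herm_NN hF A v2 v1
  have e02 := herm_NN hF A v v2
  have e11 := herm_NN hF A v1 v1
  have e20 := herm_NN hF A v2 v
  simp only [hv4, ← hv1, ← hv2, ← hv3, herm_zero_left, herm_zero_right hF, zero_add, add_zero]
    at e32 e31 e30 e13 e03 e21 e02 e11 e20
  have h12 : hermForm n F 3 v1 v2 = -δ := by linear_combination e02 - e03
  have h22 : hermForm n F 3 v2 v2 = 0 := by linear_combination e21 - e30 - e31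
  have h21 : hermForm n F 3 v2 v1 = δ := by linear_combination e11 - h12 - h22
  have h30 : hermForm n F 3 v3 v = -δ := by linear_combination e20 - h21 - e30
  have s : ∀ j : Fin 4, ![v, v1, v2, v3] j ∈ Submodule.span F (Set.range ![v, v1, v2, v3]) := fun j =>
    Submodule.subset_span ⟨j, rfl⟩
  obtain ⟨b, B, hR, hsp⟩ := restr_fam (A := A) (ρ := 1) (w := ![v, v1, v2, v3]) hF (gram4 (by
      intro a0 a1 a2 a3 c0 c1 c2 c3
      simp only [herm_add_left, herm_smul_left, e32, e31, e30, e13, e03, ← hδ, h12, h22, h21, h30] at c0 c1 c2 c3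
      have d0 : a0 = 0 := canc hδ0 (by linear_combination c3)
      rw [d0] at c2 c1 c0
      have d1 : a1 = 0 := canc hδ0 (by linear_combination -c2)
      rw [d1] at c1 c0
      have d2 : a2 = 0 := canc hδ0 (by linear_combination c1)
      rw [d2] at c0
      exact ⟨d0, d1, d2, canc hδ0 (by linear_combination -c0)⟩)) (by
      intro i
      fin_cases i
      · show sm A 1 v ∈ _
        rw [sm_one, gm_mulVec]
        exact Submodule.add_mem _ (s 0) (s 1)
      · show sm A 1 v1 ∈ _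
        rw [sm_one, gm_mulVec]
        exact Submodule.add_mem _ (s 1) (s 2)
      · show sm A 1 v2 ∈ _
        rw [sm_one, gm_mulVec]
        exact Submodule.add_mem _ (s 2) (s 3)
      · show sm A 1 v3 ∈ _
        rw [sm_one, gm_mulVec, hv4, add_zero]
        exact s 3)
  refine ⟨toAut B 1, ?_, (restr hF (by omega) (by omega) hR.on hR.eq).1 2 hps⟩
  have hy9 : (toAut B 1 : MulAut (PSU 4 F 3)) ^ 9 = 1 := hR.pow_eq_one hF (by norm_num) (by omega) hx9
  have hy3 : (toAut B 1 : MulAut (PSU 4 F 3)) ^ 3 ≠ 1 := by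
    intro h
    obtain ⟨-, c, hc⟩ := hR.of_pow_eq_one hF (by norm_num) h
    have g0 := hc v (hsp _ (s 0))
    have g3 := hc v3 (hsp _ (s 3))
    rw [sm_iter_one, ← gm_pow', hT.eq] at g0 g3
    rw [← hv3'] at g0
    have hw3 : hermForm n F 3 v3 w = 0 := by rw [hv3', herm_smul_left, hT.iso, mul_zero]
    rw [hw3, mul_zero, zero_smul, add_zero] at g3
    have hv30 : v3 ≠ 0 := by
      intro h0
      exact hδ0 (by rw [hδ, h0, herm_zero_right hF])
    have hc1 : c = 1 := by
      have h5 : (c - 1) • v3 = 0 := by rw [sub_smul, one_smul, ← g3, sub_self]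
      rcases smul_eq_zero.1 h5 with h6 | h6
      · exact sub_eq_zero.1 h6
      · exact absurd h6 hv30
    rw [hc1, one_smul] at g0
    exact hv30 (by simpa using g0)
  exact orderOf_eq_prime_pow (p := 3) (n := 1) (by rw [pow_one]; exact hy3) hy9

end Cfsg.Agent.H189.SN
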