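import Cfsg.Agent.H189.SN.Unip

/-!
# Elements of order three of `PSU_n(3)` with `PS 2` are transvections, `n ≥ 5` (helper189, S3831 E3b)

* `TV A w μ` : `A v = v + μ (v, w) w`, a transvection;
* `order3` : **the theorem.**
-/

set_option autoImplicit false
set_option linter.unusedSectionVars false

namespace Cfsg.Agent.H189.SN

open Matrix Subgroup Module Cfsg
open Cfsg.Agent.LieClassical.HermBasic Cfsg.Agent.LieClassical.HermSiegel
open Cfsg.Agent.ClassicalGeometry.PSUAutBasic Cfsg.Agent.ClassicalGeometry.HermOrtho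
open Cfsg.Agent.ClassicalGeometry.PSUAutCount (toAut gm gm_mul gm_one gm_mul_inv gm_inv_mul semiConj guConj act_guConj
  herm_gm gm_inv_mulVec gm_mulVec_inv herm_map gm_inj act_semiConj herm_semi sc gm_sc_mul toAut_sc_mul
  eq_of_toAut_eq)
open Cfsg.Agent.H459.Rad Cfsg.Agent.H21.SN

variable {F : Type} [Field F] [Fintype F] {n m : ℕ}

/-- a transvection with center `w` -/
structure TV (A : GU n F 3) (w : Fin n → F) (μ : F) : Prop where
  ne : w ≠ 0
  iso : hermForm n F 3 w w = 0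
  mu : μ ≠ 0
  tr : μ + μ ^ 3 = 0
  eq : ∀ v, gm A *ᵥ v = v + (μ * hermForm n F 3 v w) • w

/-- `gm A - 1` -/
def NN (A : GU n F 3) : Matrix (Fin n) (Fin n) F := gm A - 1

theorem gm_mulVec (A : GU n F 3) (v : Fin n → F) : gm A *ᵥ v = v + NN A *ᵥ v := by
  rw [NN, sub_mulVec, one_mulVec]
  abel

theorem herm_NN (hF : Fintype.card F = 3 ^ 2) (A : GU n F 3) (u v : Fin n → F) :
    hermForm n F 3 (NN A *ᵥ u) v + hermForm n F 3 u (NN A *ᵥ v) + hermForm n F 3 (NN A *ᵥ u) (NN A *ᵥ v) = 0 := by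
  have h1 := herm_gm A u v
  rw [gm_mulVec, gm_mulVec, herm_add_left, herm_add_right hF, herm_add_right hF] at h1
  linear_combination h1

theorem NN_cube (hF : Fintype.card F = 3 ^ 2) {A : GU n F 3} (hA : gm A ^ 3 = 1) (v : Fin n → F) :
    NN A *ᵥ (NN A *ᵥ (NN A *ᵥ v)) = 0 := by
  have h0 := three_eq_zero hF
  rw [mulVec_mulVec, mulVec_mulVec]
  have h1 : NN A * NN A * NN A = 0 := by
    have h2 : NN A * NN A * NN A = gm A ^ 3 - 1 - (3 : F) • (gm A ^ 2 - gm A) := by
      rw [NN]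
      have h3 : (3 : F) • (gm A ^ 2 - gm A) = (gm A ^ 2 - gm A) + (gm A ^ 2 - gm A) + (gm A ^ 2 - gm A) := by
        rw [show (3 : F) = 1 + 1 + 1 by norm_num, add_smul, add_smul, one_smul]
      rw [h3]
      noncomm_ring
    rw [h2, hA, h0, zero_smul, sub_self, sub_zero]
  rw [h1, zero_mulVec]

theorem gram3 {w0 w1 w2 : Fin n → F}
    (h : ∀ a0 a1 a2 : F, hermForm n F 3 (a0 • w0 + a1 • w1 + a2 • w2) w0 = 0 →
      hermForm n F 3 (a0 • w0 + a1 • w1 + a2 • w2) w1 = 0 → hermForm n F 3 (a0 • w0 + a1 • w1 + a2 • w2) w2 = 0 →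
      a0 = 0 ∧ a1 = 0 ∧ a2 = 0) (c : Fin 3 → F)
    (hc : ∀ j, hermForm n F 3 (∑ i, c i • ![w0, w1, w2] i) (![w0, w1, w2] j) = 0) : c = 0 := by
  have c0 := hc 0
  have c1 := hc 1
  have c2 := hc 2
  rw [Fin.sum_univ_three] at c0 c1 c2
  obtain ⟨h0, h1, h2⟩ := h (c 0) (c 1) (c 2) c0 c1 c2
  funext i
  fin_cases i
  · exact h0
  · exact h1
  · exact h2

theorem gram4 {w0 w1 w2 w3 : Fin n → F}
    (h : ∀ a0 a1 a2 a3 : F, hermForm n F 3 (a0 • w0 + a1 • w1 + a2 • w2 + a3 • w3) w0 = 0 →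
      hermForm n F 3 (a0 • w0 + a1 • w1 + a2 • w2 + a3 • w3) w1 = 0 →
      hermForm n F 3 (a0 • w0 + a1 • w1 + a2 • w2 + a3 • w3) w2 = 0 →
      hermForm n F 3 (a0 • w0 + a1 • w1 + a2 • w2 + a3 • w3) w3 = 0 →
      a0 = 0 ∧ a1 = 0 ∧ a2 = 0 ∧ a3 = 0) (c : Fin 4 → F)
    (hc : ∀ j, hermForm n F 3 (∑ i, c i • ![w0, w1, w2, w3] i) (![w0, w1, w2, w3] j) = 0) : c = 0 := by
  have c0 := hc 0
  have c1 := hc 1
  have c2 := hc 2
  have c3 := hc 3
  rw [Fin.sum_univ_four] at c0 c1 c2 c3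
  obtain ⟨h0, h1, h2, h3⟩ := h (c 0) (c 1) (c 2) (c 3) c0 c1 c2 c3
  funext i
  fin_cases i
  · exact h0
  · exact h1
  · exact h2
  · exact h3

/-- cancellation -/
theorem canc {a δ : F} (hδ : δ ≠ 0) (h : a * δ = 0) : a = 0 := by
  rcases mul_eq_zero.1 h with h | h
  · exact h
  · exact absurd h hδ

/-- the gram matrix of an element with `N ^ 3 = 0` -/
theorem step_sq (hF : Fintype.card F = 3 ^ 2) (hn : 5 ≤ n) (h3 : LrU 3) {A : GU n F 3} (hA3 : gm A ^ 3 = 1)
    (hps : PS 2 (toAut A 1 : MulAut (PSU n F 3))) (hrn : RN (toAut A 1 : MulAut (PSU n F 3))) :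
    NN A * NN A = 0 := by
  by_contra hne
  obtain ⟨v, hv⟩ := exists_quad_ne hF hne
  rw [← mulVec_mulVec] at hv
  set v1 := NN A *ᵥ v with hv1
  set v2 := NN A *ᵥ v1 with hv2
  have hv3 : NN A *ᵥ v2 = 0 := NN_cube hF hA3 v
  set δ := hermForm n F 3 v v2 with hδ
  have e21 := herm_NN hF A v2 v1
  have e11 := herm_NN hF A v1 v1
  have e20 := herm_NN hF A v2 v
  have e02 := herm_NN hF A v v2
  have e10 := herm_NN hF A v1 v
  have e01 := herm_NN hF A v v1
  rw [← hv2, hv3] at e21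
  rw [← hv2] at e11
  rw [← hv1, hv3] at e20
  rw [← hv1, hv3] at e02
  rw [← hv1, ← hv2] at e10
  rw [← hv1, ← hv2] at e01
  simp only [herm_zero_left, herm_zero_right hF, zero_add, add_zero] at e21 e20 e02
  have h22 : hermForm n F 3 v2 v2 = 0 := e21
  have h21 : hermForm n F 3 v2 v1 = 0 := e20
  have h12 : hermForm n F 3 v1 v2 = 0 := e02
  have h11 : hermForm n F 3 v1 v1 = -δ := by linear_combination e01 - h12
  have h20 : hermForm n F 3 v2 v = δ := by linear_combination e10 - h11 - h21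
  obtain ⟨b, B, hR, hsp⟩ := restr_fam (A := A) (ρ := 1) (w := ![v, v1, v2]) hF (gram3 (by
      intro a0 a1 a2 c0 c1 c2
      simp only [herm_add_left, herm_smul_left, h22, h12, h21, h11, h20, ← hδ] at c0 c1 c2
      have d0 : a0 = 0 := canc hv (by linear_combination c2)
      rw [d0] at c1 c0
      have d1 : a1 = 0 := canc hv (by linear_combination -c1)
      rw [d1] at c0
      exact ⟨d0, d1, canc hv (by linear_combination c0)⟩)) (by
      intro i
      have s : ∀ j : Fin 3, ![v, v1, v2] j ∈ Submodule.span F (Set.range ![v, v1, v2]) := fun j =>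
        Submodule.subset_span ⟨j, rfl⟩
      fin_cases i
      · show sm A 1 v ∈ _
        rw [sm_one, gm_mulVec]
        exact Submodule.add_mem _ (s 0) (s 1)
      · show sm A 1 v1 ∈ _
        rw [sm_one, gm_mulVec]
        exact Submodule.add_mem _ (s 1) (s 2)
      · show sm A 1 v2 ∈ _
        rw [sm_one, gm_mulVec, hv3, add_zero]
        exact s 2)
  obtain ⟨r, hr⟩ := hR.rank_one hF le_rfl (by omega) h3 hA3 hps hrn
  have s : ∀ j : Fin 3, ![v, v1, v2] j ∈ Submodule.span F (Set.range ![v, v1, v2]) := fun j =>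
    Submodule.subset_span ⟨j, rfl⟩
  obtain ⟨t0, ht0⟩ := hr v (hsp _ (s 0))
  obtain ⟨t1, ht1⟩ := hr v1 (hsp _ (s 1))
  rw [gm_mulVec] at ht0 ht1
  have g0 : v1 = t0 • r := add_left_cancel ht0
  have g1 : v2 = t1 • r := add_left_cancel ht1
  -- `(v1, v1) ≠ 0`, `(v1, v2) = 0`
  have k1 : t0 * (t0 ^ 3 * hermForm n F 3 r r) = -δ := by
    rw [← h11, g0, herm_smul_left, herm_smul_right]
  have k2 : t1 * (t1 ^ 3 * hermForm n F 3 r r) = 0 := by
    rw [← h22, g1, herm_smul_left, herm_smul_right]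
  have k3 : hermForm n F 3 r r ≠ 0 := by
    intro h
    rw [h, mul_zero, mul_zero] at k1
    exact hv (neg_eq_zero.1 k1.symm)
  have k4 : t1 = 0 := by
    rcases mul_eq_zero.1 k2 with h | h
    · exact h
    · rcases mul_eq_zero.1 h with h' | h'
      · exact (pow_eq_zero_iff (by norm_num)).1 h'
      · exact absurd h' k3
  apply hv
  rw [hδ, g1, k4, zero_smul, herm_zero_right hF]

theorem transv_of_sq (hF : Fintype.card F = 3 ^ 2) (hn : 5 ≤ n) (h4 : LrU 4) {A : GU n F 3} (hA3 : gm A ^ 3 = 1)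
    (hA1 : gm A ≠ 1) (hN : NN A * NN A = 0)
    (hps : PS 2 (toAut A 1 : MulAut (PSU n F 3))) (hrn : RN (toAut A 1 : MulAut (PSU n F 3))) :
    ∃ w μ, TV A w μ := by
  have hNN : ∀ v, NN A *ᵥ (NN A *ᵥ v) = 0 := by
    intro v
    rw [mulVec_mulVec, hN, zero_mulVec]
  have hN0 : NN A ≠ 0 := fun h => hA1 (sub_eq_zero.1 h)
  -- `(N u, N v) = 0`, `(N u, v) = -(u, N v)`
  have hnn : ∀ u v, hermForm n F 3 (NN A *ᵥ u) (NN A *ᵥ v) = 0 := by
    intro u v
    have h1 := herm_NN hF A (NN A *ᵥ u) v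
    rw [hNN, herm_zero_left, herm_zero_left, zero_add, add_zero] at h1
    exact h1
  have hadj : ∀ u v, hermForm n F 3 (NN A *ᵥ u) v = -hermForm n F 3 u (NN A *ᵥ v) := by
    intro u v
    have h1 := herm_NN hF A u v
    rw [hnn] at h1
    linear_combination h1
  obtain ⟨v, hv⟩ := exists_quad_ne hF hN0
  set w := NN A *ᵥ v with hw
  have hNw : NN A *ᵥ w = 0 := hNN v
  set δ := hermForm n F 3 v w with hδ
  have hww : hermForm n F 3 w w = 0 := hnn v v
  have hwv : hermForm n F 3 w v = -δ := hadj v v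
  have hδ3 : δ ^ 3 = -δ := by
    rw [← hwv, hδ]
    exact (herm_swap hF v w).symm
  -- decomposition
  have hdec : ∀ x : Fin n → F, ∃ (a c : F) (u : Fin n → F), hermForm n F 3 u v = 0 ∧ hermForm n F 3 u w = 0 ∧
      x = a • v + c • w + u ∧ a * δ = hermForm n F 3 x w := by
    intro x
    set a := hermForm n F 3 x w / δ with ha
    set c := (a * hermForm n F 3 v v - hermForm n F 3 x v) / δ with hc
    have ha' : a * δ = hermForm n F 3 x w := div_mul_cancel₀ _ hv
    have hc' : c * δ = a * hermForm n F 3 v v - hermForm n F 3 x v := div_mul_cancel₀ _ hv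
    refine ⟨a, c, x - (a • v + c • w), ?_, ?_, by abel, ha'⟩
    · rw [herm_sub_left, herm_add_left, herm_smul_left, herm_smul_left, hwv]
      linear_combination hc'
    · rw [herm_sub_left, herm_add_left, herm_smul_left, herm_smul_left, hww, ← hδ]
      linear_combination -ha'
  -- `N` vanishes on the complement
  have hker : ∀ u, hermForm n F 3 u v = 0 → hermForm n F 3 u w = 0 → NN A *ᵥ u = 0 := by
    intro u hu1 hu2
    by_contra hne
    have hmemP : ∀ u : Fin n → F, u ∈ hermPerp 3 ({v, w} : Set (Fin n → F)) ↔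
        hermForm n F 3 u v = 0 ∧ hermForm n F 3 u w = 0 := by
      intro u
      rw [mem_hermPerp]
      simp
    have h1 : ∃ v2 ∈ hermPerp 3 ({v, w} : Set (Fin n → F)), hermForm n F 3 v2 (NN A *ᵥ v2) ≠ 0 := by
      by_contra hcon
      push Not at hcon
      apply hne
      refine herm_nondeg hF fun x => ?_
      obtain ⟨a, c, u', hu1', hu2', rfl, -⟩ := hdec x
      rw [herm_add_right hF, herm_add_right hF, herm_smul_right, herm_smul_right, hadj, ← hw, hu2, hnn,
        herm_eq_zero_swap hF (quad_polar hF _ _ hcon ((hmemP u').2 ⟨hu1', hu2'⟩) ((hmemP u).2 ⟨hu1, hu2⟩))]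
      ring
    obtain ⟨v2, hv2P, hv2⟩ := h1
    obtain ⟨p1, p2⟩ := (hmemP v2).1 hv2P
    set w2 := NN A *ᵥ v2 with hw2
    set δ2 := hermForm n F 3 v2 w2 with hδ2
    have hNw2 : NN A *ᵥ w2 = 0 := hNN v2
    have hww2 : hermForm n F 3 w2 w2 = 0 := hnn v2 v2
    have hwv2 : hermForm n F 3 w2 v2 = -δ2 := hadj v2 v2
    have p3 : hermForm n F 3 w2 v = 0 := by rw [hw2, hadj, ← hw, p2, neg_zero]
    have p4 : hermForm n F 3 w2 w = 0 := hnn _ _
    have p5 := herm_eq_zero_swap hF p1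
    have p6 := herm_eq_zero_swap hF p2
    have p7 := herm_eq_zero_swap hF p3
    have p8 := herm_eq_zero_swap hF p4
    have s : ∀ j : Fin 4, ![v, w, v2, w2] j ∈ Submodule.span F (Set.range ![v, w, v2, w2]) := fun j =>
      Submodule.subset_span ⟨j, rfl⟩
    obtain ⟨b, B, hR, hsp⟩ := restr_fam (A := A) (ρ := 1) (w := ![v, w, v2, w2]) hF (gram4 (by
        intro a0 a1 a2 a3 c0 c1 c2 c3
        simp only [herm_add_left, herm_smul_left, hww, hwv, ← hδ, hww2, hwv2, ← hδ2, p1, p2, p3, p4, p5, p6, p7, p8]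
          at c0 c1 c2 c3
        have d0 : a0 = 0 := canc hv (by linear_combination c1)
        rw [d0] at c0
        have d2 : a2 = 0 := canc hv2 (by linear_combination c3)
        rw [d2] at c2
        exact ⟨d0, canc hv (by linear_combination -c0), d2, canc hv2 (by linear_combination -c2)⟩)) (by
        intro i
        fin_cases i
        · show sm A 1 v ∈ _
          rw [sm_one, gm_mulVec]
          exact Submodule.add_mem _ (s 0) (s 1)
        · show sm A 1 w ∈ _
          rw [sm_one, gm_mulVec, hNw, add_zero]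
          exact s 1
        · show sm A 1 v2 ∈ _
          rw [sm_one, gm_mulVec]
          exact Submodule.add_mem _ (s 2) (s 3)
        · show sm A 1 w2 ∈ _
          rw [sm_one, gm_mulVec, hNw2, add_zero]
          exact s 3)
    obtain ⟨r, hr⟩ := hR.rank_one hF (by norm_num) (by omega) h4 hA3 hps hrn
    obtain ⟨t0, ht0⟩ := hr v (hsp _ (s 0))
    obtain ⟨t1, ht1⟩ := hr v2 (hsp _ (s 2))
    rw [gm_mulVec] at ht0 ht1
    have g0 : w = t0 • r := add_left_cancel ht0
    have g1 : w2 = t1 • r := add_left_cancel ht1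
    -- `(v, w2) = 0`
    have k1 : t1 ^ 3 * hermForm n F 3 v r = 0 := by rw [← p7, g1, herm_smul_right]
    have k2 : t0 ^ 3 * hermForm n F 3 v r = δ := by rw [hδ, g0, herm_smul_right]
    rcases mul_eq_zero.1 k1 with h | h
    · have h5 : t1 = 0 := (pow_eq_zero_iff (by norm_num)).1 h
      apply hv2
      rw [hδ2, g1, h5, zero_smul, herm_zero_right hF]
    · rw [h, mul_zero] at k2
      exact hv k2.symm
  refine ⟨w, δ⁻¹, ⟨?_, hww, inv_ne_zero hv, ?_, ?_⟩⟩
  · intro h
    apply hv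
    rw [hδ, h, herm_zero_right hF]
  · rw [inv_pow, hδ3, inv_neg, add_neg_cancel]
  · intro x
    obtain ⟨a, c, u, hu1, hu2, hx, ha⟩ := hdec x
    have h5 : NN A *ᵥ x = a • w := by
      rw [hx, mulVec_add, mulVec_add, mulVec_smul, mulVec_smul, hker u hu1 hu2, hNw, ← hw, smul_zero, add_zero,
        add_zero]
    rw [gm_mulVec, h5, ← ha]
    congr 2
    field_simp

/-- **Elements of order three.** -/
theorem order3 (hF : Fintype.card F = 3 ^ 2) (hn : 5 ≤ n) (h3 : LrU 3) (h4 : LrU 4) {x : MulAut (PSU n F 3)}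
    (hx : orderOf x = 3) (hps : PS 2 x) (hrn : RN x) : ∃ (A : GU n F 3) (w : Fin n → F) (μ : F), x = toAut A 1 ∧ TV A w μ := by
  obtain ⟨A, rfl, hA3⟩ := exists_unip hF (by omega) x (Or.inl rfl)
    (orderOf_dvd_iff_pow_eq_one.1 (by rw [hx]))
  have hA1 : gm A ≠ 1 := by
    intro h
    have h1 : A = 1 := gm_inj h
    rw [h1, toAut_one, orderOf_one] at hx
    omega
  obtain ⟨w, μ, h⟩ := transv_of_sq hF hn h4 hA3 hA1 (step_sq hF hn h3 hA3 hps hrn) hps hrn
  exact ⟨A, w, μ, rfl, h⟩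

end Cfsg.Agent.H189.SN
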