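import Cfsg.Agent.H189.SN.Semi
import Cfsg.Agent.H21.SN.Tools

/-!
# Restriction of automorphisms of `PSU_n(q)` to invariant non-degenerate subspaces (helper189, S3831 E3b)

* `emb b` : the isometric embedding `F ^ m → F ^ n` with an orthonormal system `b`;
* `phi` : `SU m → SU n`, trivial on the orthogonal complement;
* `exists_restr` : **the restriction** of `toAut A ρ` to `W` is `toAut B ρ`, with `PS` and `RN`.
-/

set_option autoImplicit false
set_option linter.unusedSectionVars false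

namespace Cfsg.Agent.H189.SN

open Matrix Subgroup Module Cfsg
open Cfsg.Agent.LieClassical.HermBasic Cfsg.Agent.LieClassical.HermSiegel
open Cfsg.Agent.ClassicalGeometry.PSUAutBasic Cfsg.Agent.ClassicalGeometry.HermOrtho
open Cfsg.Agent.ClassicalGeometry.PSUAutCount (toAut gm gm_mul gm_one gm_mul_inv gm_inv_mul semiConj guConj act_guConj
  herm_gm gm_inv_mulVec gm_mulVec_inv herm_map gm_inj act_semiConj herm_semi sc gm_sc_mul toAut_sc_mul
  eq_of_toAut_eq)
open Cfsg.Agent.H880.Cl (toAut_pr)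

variable {F : Type*} [Field F] {q n m : ℕ}

/-- orthonormal system -/
def ON (q : ℕ) (b : Fin m → (Fin n → F)) : Prop :=
  ∀ i j, hermForm n F q (b i) (b j) = if i = j then 1 else 0

/-- the matrix of the embedding -/
def Im (b : Fin m → (Fin n → F)) : Matrix (Fin n) (Fin m) F := Matrix.of fun i j => b j i

/-- the matrix of the projection -/
def Pm (q : ℕ) (b : Fin m → (Fin n → F)) : Matrix (Fin m) (Fin n) F := Matrix.of fun i j => b i j ^ q

theorem Im_mulVec (b : Fin m → (Fin n → F)) (c : Fin m → F) : Im b *ᵥ c = ∑ i, c i • b i := by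
  ext i
  simp only [Im, Matrix.mulVec, dotProduct, Matrix.of_apply, Finset.sum_apply, Pi.smul_apply, smul_eq_mul]
  exact Finset.sum_congr rfl fun j _ => mul_comm _ _

theorem Pm_mulVec (b : Fin m → (Fin n → F)) (v : Fin n → F) (i : Fin m) :
    (Pm q b *ᵥ v) i = hermForm n F q v (b i) := by
  rw [herm_def]
  simp only [Pm, Matrix.mulVec, dotProduct, Matrix.of_apply]
  exact Finset.sum_congr rfl fun j _ => mul_comm _ _

theorem Pm_Im {b : Fin m → (Fin n → F)} (hb : ON q b) : Pm q b * Im b = 1 := by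
  ext i j
  have h1 : (Pm q b * Im b) i j = (Pm q b *ᵥ b j) i := rfl
  rw [h1, Pm_mulVec, hb, Matrix.one_apply]
  simp only [eq_comm]

theorem Pm_Im_mulVec {b : Fin m → (Fin n → F)} (hb : ON q b) (c : Fin m → F) : Pm q b *ᵥ (Im b *ᵥ c) = c := by
  rw [mulVec_mulVec, Pm_Im hb, one_mulVec]

theorem Im_injective {b : Fin m → (Fin n → F)} (hb : ON q b) : Function.Injective fun c => Im b *ᵥ c := by
  intro c d h
  have h1 := congrArg (fun v => Pm q b *ᵥ v) h
  simp only [Pm_Im_mulVec hb] at h1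
  exact h1

/-- the matrix of `phi a` -/
def pM (q : ℕ) (b : Fin m → (Fin n → F)) (a : Matrix (Fin m) (Fin m) F) : Matrix (Fin n) (Fin n) F :=
  1 + Im b * (a - 1) * Pm q b

theorem pM_det {b : Fin m → (Fin n → F)} (hb : ON q b) (a : Matrix (Fin m) (Fin m) F) : (pM q b a).det = a.det := by
  unfold pM
  rw [Matrix.mul_assoc, Matrix.det_one_add_mul_comm, Matrix.mul_assoc, Pm_Im hb, Matrix.mul_one]
  congr 1
  abel

theorem pM_mulVec (b : Fin m → (Fin n → F)) (a : Matrix (Fin m) (Fin m) F) (v : Fin n → F) :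
    pM q b a *ᵥ v = v + Im b *ᵥ (a *ᵥ (Pm q b *ᵥ v) - Pm q b *ᵥ v) := by
  unfold pM
  rw [add_mulVec, one_mulVec, ← mulVec_mulVec, ← mulVec_mulVec, sub_mulVec, one_mulVec]

theorem pM_Im {b : Fin m → (Fin n → F)} (hb : ON q b) (a : Matrix (Fin m) (Fin m) F) (c : Fin m → F) :
    pM q b a *ᵥ (Im b *ᵥ c) = Im b *ᵥ (a *ᵥ c) := by
  rw [pM_mulVec, Pm_Im_mulVec hb, mulVec_sub, add_sub_cancel]

theorem pM_perp (b : Fin m → (Fin n → F)) (a : Matrix (Fin m) (Fin m) F) {v : Fin n → F}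
    (hv : ∀ i, hermForm n F q v (b i) = 0) : pM q b a *ᵥ v = v := by
  have h1 : Pm q b *ᵥ v = 0 := by
    funext i
    rw [Pm_mulVec, hv]
    rfl
  rw [pM_mulVec, h1, mulVec_zero, sub_zero, mulVec_zero, add_zero]

theorem decomp {b : Fin m → (Fin n → F)} (hb : ON q b) (v : Fin n → F) :
    ∃ (c : Fin m → F) (u : Fin n → F), (∀ i, hermForm n F q u (b i) = 0) ∧ v = Im b *ᵥ c + u := by
  refine ⟨Pm q b *ᵥ v, v - Im b *ᵥ (Pm q b *ᵥ v), fun i => ?_, by abel⟩
  rw [herm_sub_left, ← Pm_mulVec b v i, ← Pm_mulVec b (Im b *ᵥ _) i, Pm_Im_mulVec hb, sub_self]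

variable [Fintype F]

theorem herm_Im (hF : Fintype.card F = q ^ 2) {b : Fin m → (Fin n → F)} (hb : ON q b) (c d : Fin m → F) :
    hermForm n F q (Im b *ᵥ c) (Im b *ᵥ d) = hermForm m F q c d := by
  rw [Im_mulVec, Im_mulVec, herm_sum_right hF]
  simp only [herm_smul_right, herm_sum_smul_left hb]
  rw [herm_def]
  exact Finset.sum_congr rfl fun j _ => mul_comm _ _

theorem herm_Im_perp (hF : Fintype.card F = q ^ 2) (b : Fin m → (Fin n → F)) (c : Fin m → F) {u : Fin n → F}
    (hu : ∀ i, hermForm n F q u (b i) = 0) : hermForm n F q u (Im b *ᵥ c) = 0 := by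
  rw [Im_mulVec, herm_sum_right hF]
  exact Finset.sum_eq_zero fun i _ => by rw [herm_smul_right, hu, mul_zero]

theorem pM_iso (hF : Fintype.card F = q ^ 2) {b : Fin m → (Fin n → F)} (hb : ON q b) {a : Matrix (Fin m) (Fin m) F}
    (ha : ∀ u v, hermForm m F q (a *ᵥ u) (a *ᵥ v) = hermForm m F q u v) (u v : Fin n → F) :
    hermForm n F q (pM q b a *ᵥ u) (pM q b a *ᵥ v) = hermForm n F q u v := by
  obtain ⟨c, u', hu', rfl⟩ := decomp hb u
  obtain ⟨d, v', hv', rfl⟩ := decomp hb v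
  rw [mulVec_add, mulVec_add, pM_Im hb, pM_Im hb, pM_perp b a hu', pM_perp b a hv']
  simp only [herm_add_left, herm_add_right hF, herm_Im hF hb, ha, herm_Im_perp hF b _ hu',
    herm_eq_zero_swap hF (herm_Im_perp hF b _ hv')]

/-- `SU m → SU n` -/
noncomputable def phi (hF : Fintype.card F = q ^ 2) {b : Fin m → (Fin n → F)} (hb : ON q b) : SU m F q →* SU n F q where
  toFun a := mkSU (pM q b (mat a)) (by rw [pM_det hb, det_mat]) (pM_iso hF hb fun u v => herm_act a u v)
  map_one' := by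
    apply ext_act
    intro v
    show pM q b (mat 1) *ᵥ v = _
    rw [mat_one, pM_mulVec, one_mulVec, sub_self, mulVec_zero, add_zero, act_one]
  map_mul' a a' := by
    apply ext_act
    intro v
    rw [act_mul]
    show pM q b (mat (a * a')) *ᵥ v = pM q b (mat a) *ᵥ (pM q b (mat a') *ᵥ v)
    obtain ⟨c, u, hu, rfl⟩ := decomp hb v
    rw [mulVec_add, mulVec_add, pM_Im hb, pM_Im hb, pM_perp b _ hu, pM_perp b _ hu, mulVec_add, pM_Im hb,
      pM_perp b _ hu, mat_mul, ← mulVec_mulVec c]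

theorem phi_Im (hF : Fintype.card F = q ^ 2) {b : Fin m → (Fin n → F)} (hb : ON q b) (a : SU m F q) (c : Fin m → F) :
    act (phi hF hb a) (Im b *ᵥ c) = Im b *ᵥ act a c := pM_Im hb _ _

theorem phi_perp (hF : Fintype.card F = q ^ 2) {b : Fin m → (Fin n → F)} (hb : ON q b) (a : SU m F q) {v : Fin n → F}
    (hv : ∀ i, hermForm n F q v (b i) = 0) : act (phi hF hb a) v = v := pM_perp b _ hv

theorem phi_injective (hF : Fintype.card F = q ^ 2) {b : Fin m → (Fin n → F)} (hb : ON q b) :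
    Function.Injective (phi hF hb) := by
  intro a a' h
  apply ext_act
  intro c
  apply Im_injective hb
  show Im b *ᵥ act a c = Im b *ᵥ act a' c
  rw [← phi_Im hF hb, ← phi_Im hF hb, h]

/-- a vector orthogonal to the system -/
theorem exists_perp {b : Fin m → (Fin n → F)} (hmn : m < n) :
    ∃ v : Fin n → F, v ≠ 0 ∧ ∀ i, hermForm n F q v (b i) = 0 := by
  set L : (Fin n → F) →ₗ[F] (Fin m → F) := Matrix.mulVecLin (Pm q b) with hL
  have h1 : LinearMap.ker L ≠ ⊥ := by
    intro h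
    have h2 := LinearMap.finrank_range_add_finrank_ker L
    rw [h, finrank_bot, add_zero, finrank_fin_fun] at h2
    have h3 := Submodule.finrank_le (LinearMap.range L)
    rw [finrank_fin_fun] at h3
    omega
  obtain ⟨v, hv, hv0⟩ := Submodule.exists_mem_ne_zero_of_ne_bot h1
  refine ⟨v, hv0, fun i => ?_⟩
  rw [← Pm_mulVec]
  have h2 : L v = 0 := hv
  exact congrFun h2 i

theorem pr_phi_injective (hF : Fintype.card F = q ^ 2) (hn : 3 ≤ n) {b : Fin m → (Fin n → F)} (hb : ON q b)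
    (hmn : m < n) : Function.Injective ((pr n F q).comp (phi hF hb)) := by
  rw [injective_iff_map_eq_one]
  intro a ha
  have h3 : pr n F q (phi hF hb a) = 1 := ha
  rw [pr_eq_one_iff] at h3
  obtain ⟨c, -, -, hc⟩ := exists_scalar_of_mem_center hF hn h3
  obtain ⟨v, hv0, hv⟩ := exists_perp (q := q) (b := b) hmn
  have h4 := phi_perp hF hb a hv
  rw [hc] at h4
  have h5 : (c - 1) • v = 0 := by rw [sub_smul, one_smul, h4, sub_self]
  have h6 : c = 1 := by
    rcases smul_eq_zero.mp h5 with h | h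
    · exact sub_eq_zero.mp h
    · exact absurd h hv0
  apply phi_injective hF hb
  rw [map_one]
  apply ext_act
  intro v
  rw [hc, h6, one_smul, act_one]

/-- the restriction of a semilinear isometry -/
theorem exists_B (hF : Fintype.card F = q ^ 2) {b : Fin m → (Fin n → F)} (hb : ON q b) {A : GU n F q} {ρ : F ≃+* F}
    (hA : ∀ i, ∃ c : Fin m → F, sm A ρ (b i) = Im b *ᵥ c) :
    ∃ B : GU m F q, ∀ c, Im b *ᵥ sm B ρ c = sm A ρ (Im b *ᵥ c) := by
  choose d hd using hA
  let M : Matrix (Fin m) (Fin m) F := Matrix.of fun i j => d j i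
  have hM : ∀ c : Fin m → F, Im b *ᵥ (M *ᵥ fun i => ρ (c i)) = sm A ρ (Im b *ᵥ c) := by
    intro c
    have h1 : (M *ᵥ fun i => ρ (c i)) = ∑ i, ρ (c i) • d i := by
      ext i
      simp only [M, Matrix.mulVec, dotProduct, Matrix.of_apply, Finset.sum_apply, Pi.smul_apply, smul_eq_mul]
      exact Finset.sum_congr rfl fun j _ => mul_comm _ _
    rw [h1, Im_mulVec b c, sm_sum]
    simp only [sm_smul, hd, mulVec_sum, mulVec_smul]
  have hsur : ∀ v : Fin m → F, ∃ w : Fin m → F, v = fun i => ρ (w i) := by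
    intro v
    exact ⟨fun i => ρ.symm (v i), by funext i; simp⟩
  obtain ⟨g, hg, hgM⟩ := exists_GU_of_isometry hF (M := M) (by
    intro u v
    obtain ⟨u, rfl⟩ := hsur u
    obtain ⟨v, rfl⟩ := hsur v
    rw [← herm_Im hF hb, hM, hM, herm_sm, herm_Im hF hb, herm_map])
  refine ⟨⟨g, hg⟩, fun c => ?_⟩
  rw [← hM]
  show Im b *ᵥ (gm ⟨g, hg⟩ *ᵥ _) = _
  have : gm (⟨g, hg⟩ : GU m F q) = M := hgM
  rw [this]

theorem sm_perp (hF : Fintype.card F = q ^ 2) {b : Fin m → (Fin n → F)} {A : GU n F q} {ρ : F ≃+* F}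
    {B : GU m F q} (hB : ∀ c, Im b *ᵥ sm B ρ c = sm A ρ (Im b *ᵥ c)) {u : Fin n → F}
    (hu : ∀ i, hermForm n F q u (b i) = 0) (i : Fin m) : hermForm n F q (sm A ρ u) (b i) = 0 := by
  obtain ⟨c, hc⟩ := sm_surjective B ρ (Pi.single i 1)
  have h1 : b i = sm A ρ (Im b *ᵥ c) := by
    rw [← hB, hc, Im_mulVec]
    simp [Pi.single_apply]
  rw [h1, herm_sm, herm_Im_perp hF b c hu, map_zero]

theorem semiConj_phi (hF : Fintype.card F = q ^ 2) {b : Fin m → (Fin n → F)} (hb : ON q b) {A : GU n F q}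
    {ρ : F ≃+* F} {B : GU m F q} (hB : ∀ c, Im b *ᵥ sm B ρ c = sm A ρ (Im b *ᵥ c)) (a : SU m F q) :
    semiConj A ρ (phi hF hb a) = phi hF hb (semiConj B ρ a) := by
  apply ext_act
  intro x
  obtain ⟨v, rfl⟩ := sm_surjective A ρ x
  rw [act_semi]
  obtain ⟨c, u, hu, rfl⟩ := decomp hb v
  rw [act_add, phi_Im, phi_perp hF hb a hu, sm_add, sm_add, act_add, ← hB c, phi_Im, act_semi, hB,
    phi_perp hF hb _ (sm_perp hF hB hu)]

open Cfsg.Agent.H459.Rad Cfsg.Agent.H21.SN in
/-- **The restriction** -/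
theorem restr {F : Type*} [Field F] [Fintype F] {q n m : ℕ} (hF : Fintype.card F = q ^ 2) (hn : 3 ≤ n) (hmn : m < n)
    {b : Fin m → (Fin n → F)} (hb : ON q b) {A : GU n F q} {ρ : F ≃+* F}
    {B : GU m F q} (hB : ∀ c, Im b *ᵥ sm B ρ c = sm A ρ (Im b *ᵥ c)) :
    (∀ k, PS k (toAut A ρ : MulAut (PSU n F q)) → PS k (toAut B ρ : MulAut (PSU m F q))) ∧
      (RN (toAut A ρ : MulAut (PSU n F q)) → RN (toAut B ρ : MulAut (PSU m F q))) := by
  have hinj := pr_phi_injective hF hn hb hmn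
  have hfin : Finite (PSU n F q) := Quotient.finite _
  have hfin' : Finite (PSU m F q) := Quotient.finite _
  set M : Subgroup (PSU n F q) := ((pr n F q).comp (phi hF hb)).range with hM
  let e : SU m F q ≃* M := MonoidHom.ofInjective hinj
  let f : M →* PSU m F q := (pr m F q).comp e.symm.toMonoidHom
  have he : ∀ a, (e a : PSU n F q) = pr n F q (phi hF hb a) := fun a => rfl
  have hf : ∀ a, f (e a) = pr m F q a := by
    intro a
    show pr m F q (e.symm (e a)) = _
    rw [e.symm_apply_apply]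
  have hx : ∀ a, toAut A ρ (e a : PSU n F q) = (e (semiConj B ρ a) : PSU n F q) := by
    intro a
    rw [he, he, toAut_pr, semiConj_phi hF hb hB]
  have hMi : ∀ x ∈ M, toAut A ρ x ∈ M := by
    intro x hxM
    obtain ⟨a, ha⟩ := e.surjective ⟨x, hxM⟩
    have h1 : x = e a := by rw [ha]
    rw [h1, hx]
    exact (e _).2
  have hfs : Function.Surjective f := pr_surjective.comp e.symm.surjective
  have hy : ∀ x : M, f ⟨toAut A ρ x, hMi x x.2⟩ = toAut B ρ (f x) := by
    intro x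
    obtain ⟨a, rfl⟩ := e.surjective x
    have h1 : (⟨toAut A ρ (e a : PSU n F q), hMi _ (e a).2⟩ : M) = e (semiConj B ρ a) := Subtype.ext (hx a)
    rw [h1, hf, hf, toAut_pr]
  have hk : Group.IsSolvable f.ker := by
    refine Group.isSolvable_of_comm fun x y => ?_
    obtain ⟨x, hx⟩ := x
    obtain ⟨y, hy⟩ := y
    obtain ⟨a, rfl⟩ := e.surjective x
    obtain ⟨a', rfl⟩ := e.surjective y
    apply Subtype.ext
    show e a * e a' = e a' * e a
    rw [← map_mul, ← map_mul]
    congr 1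
    rw [MonoidHom.mem_ker, hf, pr_eq_one_iff, mem_center_iff] at hy
    exact hy a
  exact ⟨fun k h => PS.sec h hMi f hfs _ hy, fun h => RN.sec h hMi f hfs hk _ hy⟩

end Cfsg.Agent.H189.SN
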