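import Cfsg.Agent.H189.SN.OrdSix

/-!
# Elements of order six of `PSU_n(3)`, `n ≥ 5` (helper189, S3831 E3b)

* `lin_case`, `semi_case` : the family for `x ^ 3` linear, semilinear;
* `order6` : the restriction to a non-degenerate subspace of dimension three or four has order six.
-/

set_option autoImplicit false
set_option linter.unusedSectionVars false

namespace Cfsg.Agent.H189.SN

open Matrix Subgroup Module Cfsg
open Cfsg.Agent.LieClassical.HermBasic Cfsg.Agent.LieClassical.HermSiegel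
open Cfsg.Agent.ClassicalGeometry.PSUAutBasic Cfsg.Agent.ClassicalGeometry.HermOrtho
open Cfsg.Agent.ClassicalGeometry.PSUAutCount (toAut gm gm_mul gm_one gm_mul_inv gm_inv_mul semiConj guConj act_guConj
  herm_gm gm_inv_mulVec gm_mulVec_inv herm_map gm_inj act_semiConj herm_semi sc gm_sc_mul toAut_sc_mul
  eq_of_toAut_eq)
open Cfsg.Agent.H459.Rad Cfsg.Agent.H21.SN

variable {F : Type} [Field F] [Fintype F] {n m : ℕ}

/-- the linear case -/
theorem lin_case (hF : Fintype.card F = 3 ^ 2) (hn : 5 ≤ n) {C U T : GU n F 3}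
    (hC : ∀ v, sm C 1 v = gm U *ᵥ sm T 1 v) (hcom : ∀ v, sm T 1 (gm U *ᵥ v) = gm U *ᵥ sm T 1 v) {c : F} (hc : c ≠ 0)
    (hT2 : ∀ v, sm T 1 (sm T 1 v) = c • v) {w : Fin n → F} {μ : F} (hU : TV U w μ) {a : F} (ha0 : a ≠ 0)
    (ha : sm T 1 w = a • w) (ha4 : a ^ 4 = 1) (hTs : ∃ z, sm T 1 z ≠ a • z)
    (hx : (toAut C 1 : MulAut (PSU n F 3)) ^ 6 = 1) (hps : PS 2 (toAut C 1 : MulAut (PSU n F 3))) :
    ∃ y : MulAut (PSU 3 F 3), orderOf y = 6 ∧ PS 2 y := by
  have h2 := two_ne hF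
  -- `c = a ^ 2`
  have hca : c = a ^ 2 := by
    have h1 := hT2 w
    rw [ha, sm_smul, ha, smul_smul] at h1
    have h3 : (a ^ 2 - c) • w = 0 := by
      rw [sub_smul, ← h1, pow_two]
      exact sub_self _
    rcases smul_eq_zero.1 h3 with h4 | h4
    · exact (sub_eq_zero.1 h4).symm
    · exact absurd h4 hU.ne
  have hai : a⁻¹ * a = 1 := inv_mul_cancel₀ ha0
  have hai3 : a⁻¹ * a ^ 2 = a := by rw [pow_two, ← mul_assoc, hai, one_mul]
  have hH : ∀ u v : Fin n → F, hermForm n F 3 (sm T 1 u) (sm T 1 v) = hermForm n F 3 u v := fun u v => herm_sm T 1 u v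
  have hs1 : ∀ (e : F) (v : Fin n → F), sm T 1 (e • v) = e • sm T 1 v := fun e v => sm_smul T 1 e v
  -- `w'`
  obtain ⟨u, hu⟩ : ∃ u, hermForm n F 3 u w ≠ 0 := by
    obtain ⟨u, hu⟩ := exists_herm_ne_zero hF hU.ne
    exact ⟨u, fun h => hu (herm_eq_zero_swap hF h)⟩
  set w' := u + a⁻¹ • sm T 1 u with hw'
  have hTw' : sm T 1 w' = a • w' := by
    rw [hw', sm_add, hs1, hT2, hca, smul_smul, hai3, smul_add, smul_smul, mul_inv_cancel₀ ha0, one_smul, add_comm]
  have hsu : a ^ 3 * hermForm n F 3 (sm T 1 u) w = hermForm n F 3 u w := by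
    rw [← hH u w, ha, herm_smul_right]
  have hw'w : hermForm n F 3 w' w ≠ 0 := by
    have h4 : hermForm n F 3 w' w = 2 * hermForm n F 3 u w := by
      rw [hw', herm_add_left, herm_smul_left, ← hsu]
      have h5 : a⁻¹ = a ^ 3 := by
        rw [inv_eq_iff_eq_inv]
        exact eq_inv_of_mul_eq_one_left (by linear_combination ha4)
      rw [h5]
      ring
    rw [h4]
    exact mul_ne_zero h2 hu
  -- `v`
  set P : Matrix (Fin n) (Fin n) F := 1 - a⁻¹ • gm T with hP
  have hPv : ∀ v, P *ᵥ v = v - a⁻¹ • sm T 1 v := by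
    intro v
    rw [hP, sub_mulVec, one_mulVec, smul_mulVec, sm_one]
  have hP0 : P ≠ 0 := by
    intro h
    obtain ⟨z, hz⟩ := hTs
    apply hz
    have h1 := hPv z
    rw [h, zero_mulVec] at h1
    have h4 : z = a⁻¹ • sm T 1 z := sub_eq_zero.1 h1.symm
    calc sm T 1 z = a • (a⁻¹ • sm T 1 z) := by rw [smul_smul, mul_inv_cancel₀ ha0, one_smul]
      _ = a • z := by rw [← h4]
  obtain ⟨z, hz⟩ := exists_quad_ne hF hP0
  set v := P *ᵥ z with hv
  have hvz : v = z - a⁻¹ • sm T 1 z := hPv z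
  have hTv : sm T 1 v = (-a) • v := by
    rw [hvz, sm_sub, hs1, hT2, hca, smul_smul, hai3, smul_sub, smul_smul, neg_mul, mul_inv_cancel₀ ha0, neg_smul,
      neg_smul, one_smul]
    abel
  have ha4' : a * a ^ 3 = 1 := by linear_combination ha4
  have hvv : hermForm n F 3 v v ≠ 0 := by
    have h5 : hermForm n F 3 v v = 2 * hermForm n F 3 z v := by
      -- `(a⁻¹ T z, v) = -(z, v)`
      have h6 : hermForm n F 3 (sm T 1 z) v = -(a * hermForm n F 3 z v) := by
        have h7 := hH z v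
        rw [hTv, herm_smul_right] at h7
        have h8 : (-a) ^ 3 = -a ^ 3 := by ring
        rw [h8] at h7
        linear_combination (-a) * h7 - hermForm n F 3 (sm T 1 z) v * ha4'
      have h9 : hermForm n F 3 v v = hermForm n F 3 z v - a⁻¹ * hermForm n F 3 (sm T 1 z) v := by
        conv_lhs => rw [hvz]
        rw [herm_sub_left, herm_smul_left, ← hvz]
      rw [h9, h6]
      linear_combination hermForm n F 3 z v * hai
    rw [h5]
    exact mul_ne_zero h2 hz
  have horth : ∀ x : Fin n → F, sm T 1 x = a • x → hermForm n F 3 v x = 0 := by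
    intro x hx
    have h5 := hH v x
    rw [hTv, hx, herm_smul_left, herm_smul_right] at h5
    have h6 : hermForm n F 3 v x * 2 = 0 := by
      linear_combination -h5 - hermForm n F 3 v x * ha4'
    rcases mul_eq_zero.1 h6 with h | h
    · exact h
    · exact absurd h h2
  have o1 := horth w ha
  have o2 := horth w' hTw'
  have o3 := herm_eq_zero_swap hF o1
  have o4 := herm_eq_zero_swap hF o2
  have hww := hU.iso
  set ε := hermForm n F 3 w w' with hε
  have hε0 : ε ≠ 0 := fun h => hw'w (herm_eq_zero_swap hF h)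
  have hv0 : v ≠ 0 := by
    intro h
    exact hvv (by rw [h, herm_zero_left])
  refine finish hF le_rfl (by omega) hC hcom hc hT2 hU ![w, w', v] 0 1 rfl hw'w ?_ (gram3 ?_) (Or.inr
    ⟨0, 2, a, -a, hU.ne, hv0, ?_, ha, hTv⟩) hx hps
  · intro i
    fin_cases i
    · exact ⟨a, ha⟩
    · exact ⟨a, hTw'⟩
    · exact ⟨-a, hTv⟩
  · intro a0 a1 a2 c0 c1 c2
    simp only [herm_add_left, herm_smul_left, o1, o2, o3, o4, hww, ← hε] at c0 c1 c2
    have d1 : a1 = 0 := canc hw'w (by linear_combination c0)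
    rw [d1] at c1
    have d0 : a0 = 0 := canc hε0 (by linear_combination c1)
    exact ⟨d0, d1, canc hvv (by linear_combination c2)⟩
  · intro h
    have h6 : 2 * a = 0 := by linear_combination h
    rcases mul_eq_zero.1 h6 with h7 | h7
    · exact h2 h7
    · exact ha0 h7

/-- the semilinear case -/
theorem semi_case (hF : Fintype.card F = 3 ^ 2) (hn : 5 ≤ n) {C U T : GU n F 3} {ρ : F ≃+* F} (hρ : ρ = conj hF)
    (hC : ∀ v, sm C ρ v = gm U *ᵥ sm T ρ v) (hcom : ∀ v, sm T ρ (gm U *ᵥ v) = gm U *ᵥ sm T ρ v)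
    (hT2 : ∀ v, sm T ρ (sm T ρ v) = (-1 : F) • v) {w : Fin n → F} {μ : F} (hU : TV U w μ) {a : F} (ha0 : a ≠ 0)
    (ha : sm T ρ w = a • w) (ha4 : a ^ 4 = -1)
    (hx : (toAut C ρ : MulAut (PSU n F 3)) ^ 6 = 1) (hps : PS 2 (toAut C ρ : MulAut (PSU n F 3))) :
    ∃ y : MulAut (PSU 4 F 3), orderOf y = 6 ∧ PS 2 y := by
  have h2 := two_ne hF
  have hρx : ∀ x : F, ρ x = x ^ 3 := fun x => by rw [hρ, conj_apply]
  have hρ1 : ρ ≠ 1 := by
    intro h
    obtain ⟨x, hx⟩ := exists_not_fixed hF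
    apply hx
    rw [← hρx, h]
    rfl
  have hai : a⁻¹ * a = 1 := inv_mul_cancel₀ ha0
  have hH : ∀ u v : Fin n → F, hermForm n F 3 (sm T ρ u) (sm T ρ v) = hermForm n F 3 u v ^ 3 := fun u v => by
    rw [herm_sm, hρx]
  have hs : ∀ (e : F) (v : Fin n → F), sm T ρ (e • v) = e ^ 3 • sm T ρ v := fun e v => by rw [sm_smul, hρx]
  have ha4' : a * a ^ 3 = -1 := by linear_combination ha4
  -- the projection to the fixed space
  set pj : F → (Fin n → F) → (Fin n → F) := fun e z => e • z + (a⁻¹ * e ^ 3) • sm T ρ z with hpj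
  have he9 : ∀ e : F, e ^ 9 = e := pow_nine hF
  have hTpj : ∀ e z, sm T ρ (pj e z) = a • pj e z := by
    intro e z
    simp only [hpj]
    rw [sm_add, hs, hs, hT2, smul_add, smul_smul, smul_smul, smul_smul, ← mul_assoc, mul_inv_cancel₀ ha0, one_mul,
      add_comm]
    congr 2
    have h5 : (a⁻¹) ^ 3 = -a := by
      have h6 : (a⁻¹) ^ 3 * a ^ 3 = 1 := by rw [← mul_pow, hai, one_pow]
      linear_combination (-a) * h6 + (a⁻¹) ^ 3 * ha4'
    rw [mul_pow, h5, ← pow_mul]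
    linear_combination a * he9 e
  have hpw : ∀ (x : Fin n → F), sm T ρ x = a • x → ∀ e z, hermForm n F 3 (pj e z) x =
      e * hermForm n F 3 z x - (e * hermForm n F 3 z x) ^ 3 := by
    intro x hx e z
    have h5 := hH z x
    rw [hx, herm_smul_right] at h5
    simp only [hpj]
    rw [herm_add_left, herm_smul_left, herm_smul_left, mul_pow, ← h5]
    have h6 : a⁻¹ = -a ^ 3 := by
      linear_combination a⁻¹ * ha4' - a ^ 3 * hai
    rw [h6]
    ring
  obtain ⟨ζ, hζ⟩ := exists_not_fixed hF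
  -- choice of a scalar
  have hsc : ∀ η : F, η ≠ 0 → ∃ e : F, e * η - (e * η) ^ 3 ≠ 0 := by
    intro η hη
    refine ⟨ζ / η, ?_⟩
    rw [div_mul_cancel₀ _ hη]
    intro h
    exact hζ (sub_eq_zero.1 h).symm
  -- the form on the fixed space
  have hV0 : ∀ x y : Fin n → F, sm T ρ x = a • x → sm T ρ y = a • y → hermForm n F 3 y x = -hermForm n F 3 x y := by
    intro x y hx hy
    have h5 := hH x y
    rw [hx, hy, herm_smul_left, herm_smul_right, ← herm_swap hF] at h5
    linear_combination -h5 + hermForm n F 3 x y * ha4'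
  have hV1 : ∀ x : Fin n → F, sm T ρ x = a • x → hermForm n F 3 x x = 0 := by
    intro x hx
    have h5 := hV0 x x hx hx
    rcases mul_eq_zero.1 (show 2 * hermForm n F 3 x x = 0 by linear_combination h5) with h | h
    · exact absurd h h2
    · exact h
  -- `w'`
  obtain ⟨u, hu⟩ : ∃ u, hermForm n F 3 u w ≠ 0 := by
    obtain ⟨u, hu⟩ := exists_herm_ne_zero hF hU.ne
    exact ⟨u, fun h => hu (herm_eq_zero_swap hF h)⟩
  obtain ⟨e, he⟩ := hsc _ hu
  set w' := pj e u with hw'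
  have hTw' : sm T ρ w' = a • w' := hTpj e u
  set ε := hermForm n F 3 w' w with hε
  have hε0 : ε ≠ 0 := by rw [hε, hpw w ha]; exact he
  have hww' : hermForm n F 3 w w' = -ε := hV0 w' w hTw' ha
  have hww := hU.iso
  have hw'w' := hV1 w' hTw'
  -- `v1`
  obtain ⟨z, hz0, hz1, hz2⟩ := exists_vec_perp hF (by omega) w w'
  have hpP : ∀ (x : Fin n → F), sm T ρ x = a • x → ∀ z, hermForm n F 3 z x = 0 → ∀ e, hermForm n F 3 (pj e z) x = 0 := by
    intro x hx z hz e
    rw [hpw x hx, hz]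
    ring
  obtain ⟨v1, hv10, hTv1, hv1w, hv1w'⟩ : ∃ v1, v1 ≠ 0 ∧ sm T ρ v1 = a • v1 ∧ hermForm n F 3 v1 w = 0 ∧
      hermForm n F 3 v1 w' = 0 := by
    by_cases h1 : pj 1 z = 0
    · refine ⟨pj ζ z, ?_, hTpj _ _, hpP w ha z hz1 _, hpP w' hTw' z hz2 _⟩
      intro h3
      simp only [hpj] at h1 h3
      rw [one_smul, one_pow, mul_one] at h1
      have h5 : (ζ - ζ ^ 3) • z = 0 := by
        have h6 : a⁻¹ • sm T ρ z = -z := by rw [eq_neg_iff_add_eq_zero, add_comm]; exact h1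
        rw [sub_smul, ← h3, mul_comm, ← smul_smul, h6, smul_neg]
        abel
      rcases smul_eq_zero.1 h5 with h6 | h6
      · exact hζ (sub_eq_zero.1 h6).symm
      · exact hz0 h6
    · exact ⟨pj 1 z, h1, hTpj _ _, hpP w ha z hz1 _, hpP w' hTw' z hz2 _⟩
  -- `v2`
  obtain ⟨x, hx1⟩ : ∃ x, hermForm n F 3 x v1 ≠ 0 := by
    obtain ⟨u, hu⟩ := exists_herm_ne_zero hF hv10
    exact ⟨u, fun h => hu (herm_eq_zero_swap hF h)⟩
  have q1 := herm_eq_zero_swap hF hv1w
  have q2 := herm_eq_zero_swap hF hv1w'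
  set z2 := x - (-(hermForm n F 3 x w' / ε)) • w - (hermForm n F 3 x w / ε) • w' with hz2'
  have z2w : hermForm n F 3 z2 w = 0 := by
    rw [hz2', herm_sub_left, herm_sub_left, herm_smul_left, herm_smul_left, hww, ← hε, div_mul_cancel₀ _ hε0]
    ring
  have z2w' : hermForm n F 3 z2 w' = 0 := by
    rw [hz2', herm_sub_left, herm_sub_left, herm_smul_left, herm_smul_left, hww', hw'w', neg_mul_neg,
      div_mul_cancel₀ _ hε0]
    ring
  have z2v : hermForm n F 3 z2 v1 ≠ 0 := by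
    rw [hz2', herm_sub_left, herm_sub_left, herm_smul_left, herm_smul_left, q1, q2, mul_zero, mul_zero, sub_zero,
      sub_zero]
    exact hx1
  obtain ⟨e2, he2⟩ := hsc _ z2v
  set v2 := pj e2 z2 with hv2
  have hTv2 : sm T ρ v2 = a • v2 := hTpj _ _
  have hv2w : hermForm n F 3 v2 w = 0 := hpP w ha z2 z2w _
  have hv2w' : hermForm n F 3 v2 w' = 0 := hpP w' hTw' z2 z2w' _
  have q3 := herm_eq_zero_swap hF hv2w
  have q4 := herm_eq_zero_swap hF hv2w'
  set ε2 := hermForm n F 3 v2 v1 with hε2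
  have hε20 : ε2 ≠ 0 := by rw [hε2, hpw v1 hTv1]; exact he2
  have hv12 : hermForm n F 3 v1 v2 = -ε2 := hV0 v2 v1 hTv2 hTv1
  have hv11 := hV1 v1 hTv1
  have hv22 := hV1 v2 hTv2
  refine finish hF (by norm_num) (by omega) hC hcom (neg_ne_zero.2 one_ne_zero) hT2 hU ![w, w', v1, v2] 0 1 rfl hε0 ?_
    (gram4 ?_) (Or.inl hρ1) hx hps
  · intro i
    fin_cases i
    · exact ⟨a, ha⟩
    · exact ⟨a, hTw'⟩
    · exact ⟨a, hTv1⟩
    · exact ⟨a, hTv2⟩
  · intro a0 a1 a2 a3 c0 c1 c2 c3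
    simp only [herm_add_left, herm_smul_left, hww, ← hε, hww', hw'w', hv1w, hv1w', q1, q2, hv2w, hv2w', q3, q4, ← hε2,
      hv12, hv11, hv22] at c0 c1 c2 c3
    exact ⟨canc hε0 (by linear_combination -c1), canc hε0 (by linear_combination c0),
      canc hε20 (by linear_combination -c3), canc hε20 (by linear_combination c2)⟩

end Cfsg.Agent.H189.SN
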