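import Cfsg.Agent.H189.SN.Fam
import Cfsg.Agent.H21.SN.Lr

/-!
# Elements of order three of `PSU_n(3)` with `PS 2` are transvections, `n ≥ 5` (helper189, S3831 E3b)

* `exists_unip` : elements with `x ^ 3 = 1` or `x ^ 9 = 1` are `toAut A 1` with `A ^ 3 = 1` or `A ^ 9 = 1`;
* `rank_one` : `LrU m` for matrices;
* `order3` : **the theorem.**
-/

set_option autoImplicit false
set_option linter.unusedSectionVars false

namespace Cfsg.Agent.H189.SN

open Matrix Subgroup Module Cfsg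
open Cfsg.Agent.LieClassical.HermBasic Cfsg.Agent.LieClassical.HermSiegel
open Cfsg.Agent.ClassicalGeometry.PSUAutBasic Cfsg.Agent.ClassicalGeometry.HermOrtho
open Cfsg.Agent.ClassicalGeometry.PSUAutCount (toAut gm gm_mul gm_one gm_mul_inv gm_inv_mul semiConj guConj act_guConj
  herm_gm gm_inv_mulVec gm_mulVec_inv herm_map gm_inj act_semiConj herm_semi sc gm_sc_mul toAut_sc_mul
  eq_of_toAut_eq)
open Cfsg.Agent.H459.Rad Cfsg.Agent.H21.SN

section Gen

variable {F : Type*} [Field F] [Fintype F] {q n m : ℕ}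

/-- polarization -/
theorem quad_polar (hF : Fintype.card F = q ^ 2) (W : Submodule F (Fin n → F)) (P : Matrix (Fin n) (Fin n) F)
    (h : ∀ v ∈ W, hermForm n F q v (P *ᵥ v) = 0) {u v : Fin n → F} (hu : u ∈ W) (hv : v ∈ W) :
    hermForm n F q u (P *ᵥ v) = 0 := by
  have key : ∀ c : F, c ^ q * hermForm n F q u (P *ᵥ v) + c * hermForm n F q v (P *ᵥ u) = 0 := by
    intro c
    have h1 := h (u + c • v) (W.add_mem hu (W.smul_mem c hv))
    rw [mulVec_add, mulVec_smul, herm_add_left, herm_add_right hF, herm_add_right hF, herm_smul_left, herm_smul_right,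
      herm_smul_right, herm_smul_left, h u hu, h v hv] at h1
    linear_combination h1
  obtain ⟨c, hc⟩ := exists_not_fixed hF
  have h1 := key 1
  have h2 := key c
  rw [one_pow] at h1
  have h3 : (c ^ q - c) * hermForm n F q u (P *ᵥ v) = 0 := by linear_combination h2 - c * h1
  rcases mul_eq_zero.1 h3 with h4 | h4
  · exact absurd (sub_eq_zero.1 h4) hc
  · exact h4

theorem exists_quad_ne (hF : Fintype.card F = q ^ 2) {P : Matrix (Fin n) (Fin n) F} (hP : P ≠ 0) :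
    ∃ v, hermForm n F q v (P *ᵥ v) ≠ 0 := by
  by_contra hcon
  push Not at hcon
  apply hP
  apply Matrix.mulVec_injective
  funext v
  rw [zero_mulVec]
  refine herm_nondeg hF fun u => ?_
  exact herm_eq_zero_swap hF (quad_polar hF ⊤ P (fun v _ => hcon v) Submodule.mem_top Submodule.mem_top)

theorem exists_vec_perp (hF : Fintype.card F = q ^ 2) (hn : 3 ≤ n) (x y : Fin n → F) :
    ∃ v : Fin n → F, v ≠ 0 ∧ hermForm n F q v x = 0 ∧ hermForm n F q v y = 0 := by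
  obtain ⟨v, h1, h2⟩ := exists_perp (q := q) (b := ![x, y]) (show 2 < n by omega)
  exact ⟨v, h1, h2 0, h2 1⟩

/-- inner automorphisms -/
theorem exists_gm_of_su (hF : Fintype.card F = q ^ 2) (g : SU n F q) :
    ∃ A : GU n F q, gm A = mat g ∧ MulAut.conj (pr n F q g) = toAut A 1 := by
  obtain ⟨A0, hA0, hAm⟩ := exists_GU_of_isometry (M := mat g) hF (fun u v => herm_act g u v)
  have hA : gm (⟨A0, hA0⟩ : GU n F q) = mat g := hAm
  refine ⟨⟨A0, hA0⟩, hA, ?_⟩
  ext x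
  obtain ⟨y, rfl⟩ := pr_surjective x
  rw [MulAut.conj_apply, ← map_mul, ← map_inv, ← map_mul]
  symm
  apply toAut_pr_eq
  intro v
  rw [sm_one, sm_one, hA]
  show act (g * y * g⁻¹) (act g v) = act g (act y v)
  rw [← act_mul, inv_mul_cancel_right, act_mul]

theorem toAut_pow' (hF : Fintype.card F = q ^ 2) (A : GU n F q) (k : ℕ) :
    (toAut A 1 : MulAut (PSU n F q)) ^ k = toAut (A ^ k) 1 := by
  induction k with
  | zero => rw [pow_zero, pow_zero, toAut_one]
  | succ k ih => rw [pow_succ, pow_succ, ih, toAut_mul' hF]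

theorem sm_iter_one (A : GU n F q) (k : ℕ) (v : Fin n → F) : (sm A 1)^[k] v = gm A ^ k *ᵥ v := by
  induction k with
  | zero => rw [pow_zero, one_mulVec]; rfl
  | succ k ih => rw [Function.iterate_succ_apply', ih, sm_one, mulVec_mulVec, ← pow_succ']

theorem Rst.gm_pow (hF : Fintype.card F = q ^ 2) {A : GU n F q} {b : Fin m → (Fin n → F)} {B : GU m F q}
    (h : Rst A 1 b B) {k : ℕ} (hk : gm A ^ k = 1) : gm B ^ k = 1 := by
  apply Matrix.mulVec_injective
  funext v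
  rw [one_mulVec]
  apply Im_injective h.on
  show Im b *ᵥ _ = Im b *ᵥ _
  rw [← sm_iter_one, h.iter, sm_iter_one, hk, one_mulVec]

end Gen

section Three

variable {F : Type} [Field F] [Fintype F] {n m : ℕ}

theorem exists_unip (hF : Fintype.card F = 3 ^ 2) (hn : 3 ≤ n) (x : MulAut (PSU n F 3)) {k : ℕ} (hk : k = 3 ∨ k = 9)
    (hx : x ^ k = 1) : ∃ A : GU n F 3, x = toAut A 1 ∧ gm A ^ k = 1 := by
  obtain ⟨A, ρ, rfl⟩ := Cfsg.Agent.ClassicalGeometry.PSUAutMain.exists_toAut hF hn (by norm_num) x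
  have hρ : ρ = 1 := by
    have h1 := ((pow_eq_one_iff hF hn A ρ k).1 hx).1
    rcases hk with rfl | rfl
    · exact aut_of_cube hF h1
    · exact aut_of_nine hF h1
  subst hρ
  rw [toAut_pow' hF, ← toAut_one] at hx
  obtain ⟨-, c, hc, h2⟩ := eq_of_toAut_eq hF hn hx.symm
  rw [gm_one, gm_pow'] at h2
  have hc4 : c ^ 4 = 1 := by linear_combination hc
  have key : ∃ d : F, d * d ^ 3 = 1 ∧ d ^ k * c = 1 := by
    rcases hk with rfl | rfl
    · exact ⟨c, hc, by linear_combination hc⟩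
    · refine ⟨c ^ 3, ?_, ?_⟩
      · calc c ^ 3 * (c ^ 3) ^ 3 = (c ^ 4) ^ 3 := by ring
          _ = 1 := by rw [hc4, one_pow]
      · calc (c ^ 3) ^ 9 * c = (c ^ 4) ^ 7 := by ring
          _ = 1 := by rw [hc4, one_pow]
  obtain ⟨d, hd, hdk⟩ := key
  refine ⟨sc n ⟨d, hd⟩ * A, (toAut_sc_mul _ _ _).symm, ?_⟩
  rw [gm_sc_mul, smul_pow, h2, smul_smul, hdk, one_smul]

/-- `LrU m` for matrices -/
theorem rank_one (hF : Fintype.card F = 3 ^ 2) (hm : 3 ≤ m) (h : LrU m) {B : GU m F 3} (hB3 : gm B ^ 3 = 1)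
    (hps : PS 2 (toAut B 1 : MulAut (PSU m F 3))) (hrn : RN (toAut B 1 : MulAut (PSU m F 3))) :
    ∃ r : Fin m → F, ∀ v, ∃ t : F, gm B *ᵥ v = v + t • r := by
  by_cases hB : gm B = 1
  · exact ⟨0, fun v => ⟨0, by rw [hB, one_mulVec, zero_smul, add_zero]⟩⟩
  have hcube : ∀ c : F, c ^ 3 = 1 → c = 1 := by
    intro c hc
    calc c = c ^ 9 := (pow_nine hF c).symm
      _ = (c ^ 3) ^ 3 := by ring
      _ = 1 := by rw [hc, one_pow]
  have ho : orderOf (toAut B 1 : MulAut (PSU m F 3)) = 3 := by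
    refine orderOf_eq_prime (p := 3) ?_ ?_
    · rw [toAut_pow' hF, ← toAut_one]
      congr 1
      apply gm_inj
      rw [gm_pow', hB3, gm_one]
    · intro h1
      rw [← toAut_one] at h1
      obtain ⟨-, c, hc, h2⟩ := eq_of_toAut_eq hF hm h1.symm
      rw [gm_one] at h2
      rw [h2, smul_pow, one_pow] at hB3
      have h3 := congrFun (congrFun hB3 ⟨0, by omega⟩) ⟨0, by omega⟩
      rw [Matrix.smul_apply, Matrix.one_apply_eq, smul_eq_mul, mul_one] at h3
      apply hB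
      rw [h2, hcube c h3, one_smul]
  obtain ⟨A, v, w, hA, hx⟩ := h F hF _ ho hps hrn
  obtain ⟨A', hA', hx'⟩ := exists_gm_of_su hF A
  have h1 : (toAut B 1 : MulAut (PSU m F 3)) = toAut A' 1 := by rw [← hx', hx]; rfl
  obtain ⟨-, c, hc, h2⟩ := eq_of_toAut_eq hF hm h1
  have hmA : gm A' = 1 + vecMulVec v w := by rw [hA']; exact hA
  -- a vector killed by `w`
  obtain ⟨u, hu0, hu1, -⟩ := exists_vec_perp hF hm (fun i => w i ^ 3) (fun i => w i ^ 3)
  have hu : w ⬝ᵥ u = 0 := by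
    rw [← hu1, herm_def, dotProduct]
    refine Finset.sum_congr rfl fun i _ => ?_
    rw [pow_q_pow_q hF, mul_comm]
  have h3 : gm A' *ᵥ u = u := by
    rw [hmA, add_mulVec, one_mulVec, vecMulVec_mulVec, hu]
    simp
  have h4 : gm A' ^ 3 *ᵥ u = u := by
    rw [pow_succ, pow_two, ← mulVec_mulVec, ← mulVec_mulVec, h3, h3, h3]
  have h5 : c ^ 3 = 1 := by
    rw [h2, smul_pow, hB3, smul_mulVec, one_mulVec] at h4
    have h6 : (c ^ 3 - 1) • u = 0 := by rw [sub_smul, one_smul, h4, sub_self]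
    rcases smul_eq_zero.1 h6 with h7 | h7
    · exact sub_eq_zero.1 h7
    · exact absurd h7 hu0
  rw [hcube c h5, one_smul] at h2
  refine ⟨v, fun x => ⟨w ⬝ᵥ x, ?_⟩⟩
  rw [← h2, hmA, add_mulVec, one_mulVec, vecMulVec_mulVec]
  simp

theorem Rst.rank_one (hF : Fintype.card F = 3 ^ 2) (hm : 3 ≤ m) (hmn : m < n) (h : LrU m) {A : GU n F 3}
    {b : Fin m → (Fin n → F)} {B : GU m F 3} (hR : Rst A 1 b B) (hA3 : gm A ^ 3 = 1)
    (hps : PS 2 (toAut A 1 : MulAut (PSU n F 3))) (hrn : RN (toAut A 1 : MulAut (PSU n F 3))) :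
    ∃ r : Fin n → F, ∀ v, (∃ d, v = Im b *ᵥ d) → ∃ t : F, gm A *ᵥ v = v + t • r := by
  obtain ⟨h1, h2⟩ := restr hF (by omega) hmn hR.on hR.eq
  obtain ⟨r, hr⟩ := SN.rank_one hF hm h (hR.gm_pow hF hA3) (h1 2 hps) (h2 hrn)
  refine ⟨Im b *ᵥ r, ?_⟩
  rintro _ ⟨d, rfl⟩
  obtain ⟨t, ht⟩ := hr d
  refine ⟨t, ?_⟩
  have h3 := hR.eq d
  rw [sm_one, sm_one, ht, mulVec_add, mulVec_smul] at h3
  exact h3.symm

end Three

end Cfsg.Agent.H189.SN
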